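import Cfsg.Agent.Blocks.DegreeEquation.Check
import Cfsg.Agent.Chars.Sums

/-!
# A principal block with inertial index three
-/

set_option autoImplicit false
set_option linter.unusedSectionVars false

namespace Cfsg.Lib.Small.DegreeGraph

open Cfsg.Lib.Chars Cfsg.Lib.Blocks Cfsg.Lib.Blocks.SmallOrder Cfsg.Lib.Blocks.SylowCount
  Cfsg.Lib.Blocks.DegreeEquation
open scoped ComplexConjugate _root_.Classical

universe u

variable {G : Type u} [Group G] [Fintype G] {p : ℕ} [Fact p.Prime]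

/-- The principal block when the normaliser has index three over a self-centralising subgroup. -/
structure Three (M : Ideal AlgInt) (C : Cyc G p) (ν : (ZMod p)ˣ → IrrCharacter G) (δ : ℤ)
    (a b : IrrCharacter G) : Prop where
  modular : IsPModular p M
  core : Core C
  data : C.OrbitData C.oneV ν δ
  trivial_V : Nat.card C.V = 1
  index : eC C = 3
  five : 5 ≤ p
  ord_eq : ordSet C ν = {oneG G, a, b}
  not_one : oneG G ∉ Set.range ν
  ne_a : a ≠ oneG G
  ne_b : b ≠ oneG G
  ne_ab : a ≠ b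

variable [IsSimpleGroup G] {M : Ideal AlgInt} {C : Cyc G p} {ν : (ZMod p)ˣ → IrrCharacter G} {δ : ℤ}

/-- The signed degree. -/
noncomputable def sdeg (C : Cyc G p) (χ : IrrCharacter G) : ℤ :=
  C.bI χ C.oneV 1 * (deg (χ : G → ℂ) : ℤ)

theorem exists_three (hC : Core C) (hM : IsPModular p M) (hD : C.OrbitData C.oneV ν δ)
    (hV : Nat.card C.V = 1) (he : eC C = 3) (hp : 5 ≤ p) :
    ∃ a b, Three M C ν δ a b ∧
      (IsTerm p (idx C * eC C) (Nat.card G) 1 (sdeg C a) ∧
        Allowed p (Nat.card G) (Nat.card C.V) (sdeg C a).natAbs) ∧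
      (IsTerm p (idx C * eC C) (Nat.card G) 1 (sdeg C b) ∧
        Allowed p (Nat.card G) (Nat.card C.V) (sdeg C b).natAbs) ∧
      (IsTerm p (idx C * eC C) (Nat.card G) 3 (1 + sdeg C a + sdeg C b) ∧
        Allowed p (Nat.card G) (Nat.card C.V) (1 + sdeg C a + sdeg C b).natAbs) ∧
      1 + sdeg C a + sdeg C b = δ * (deg (ν 1 : G → ℂ) : ℤ) := by
  have hr : oneG G ∉ Set.range ν := by
    rintro ⟨u, hu⟩
    have hx0 : deg (ν 1 : G → ℂ) = 1 := by rw [← deg_exc hD u, hu, deg_oneG]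
    have hcong := congr_exc hM hD
    rw [hx0, he] at hcong
    rcases hD.sign with e | e <;> rw [e] at hcong
    · have := Int.le_of_dvd (by norm_num) (dvd_neg.2 hcong)
      omega
    · have := Int.le_of_dvd (by norm_num) hcong
      omega
  have hm : oneG G ∈ ordSet C ν := mem_ordSet.2 ⟨lies_oneG, hr⟩
  obtain ⟨a, b, hab, hset⟩ : ∃ a b, a ≠ b ∧ (ordSet C ν).erase (oneG G) = {a, b} :=
    Finset.card_eq_two.1 (by rw [Finset.card_erase_of_mem hm, card_ordSet hD, he])
  have ha : a ∈ (ordSet C ν).erase (oneG G) := hset ▸ Finset.mem_insert_self _ _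
  have hb : b ∈ (ordSet C ν).erase (oneG G) :=
    hset ▸ Finset.mem_insert_of_mem (Finset.mem_singleton_self _)
  have habs : ∀ χ ∈ ordSet C ν, (sdeg C χ).natAbs = deg (χ : G → ℂ) := fun χ hχ => by
    rcases hD.sign_diff (χ := χ) (mem_ordSet.1 hχ) with e | e <;> simp [sdeg, e]
  have hterm : ∀ χ ∈ (ordSet C ν).erase (oneG G),
      IsTerm p (idx C * eC C) (Nat.card G) 1 (sdeg C χ) ∧
        Allowed p (Nat.card G) (Nat.card C.V) (sdeg C χ).natAbs := fun χ hχ => by
    have h1 := Finset.mem_of_mem_erase hχ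
    refine ⟨isTerm_ord hC hM hD h1 (Finset.ne_of_mem_erase hχ), ?_⟩
    rw [habs χ h1]
    exact allowed_of_lies hC hM (by omega) (mem_ordSet.1 h1).1 (Finset.ne_of_mem_erase hχ)
  have hrel := relation hD
  rw [← Finset.add_sum_erase _ _ hm, hset, Finset.sum_pair hab, bI_oneG' hM hD hr, deg_oneG] at hrel
  push_cast at hrel
  have hsum : 1 + sdeg C a + sdeg C b = δ * (deg (ν 1 : G → ℂ) : ℤ) := by
    rw [sdeg, sdeg]; linarith
  refine ⟨a, b, ⟨hM, hC, hD, hV, he, hp, ?_, hr, Finset.ne_of_mem_erase ha,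
    Finset.ne_of_mem_erase hb, hab⟩, hterm a ha, hterm b hb, ⟨?_, ?_⟩, hsum⟩
  · rw [← Finset.insert_erase hm, hset]
  · have := isTerm_exc hC hM hD hr
    rw [he] at this
    rw [hsum, he]
    exact_mod_cast this
  · rw [hsum, show (δ * (deg (ν 1 : G → ℂ) : ℤ)).natAbs = deg (ν 1 : G → ℂ) by
      rcases hD.sign with e | e <;> simp [e]]
    exact allowed_of_lies hC hM (by omega) (lies_exc hD 1) fun e => hr ⟨1, e⟩

namespace Three

variable {a b : IrrCharacter G}

/-- The characters outside the block. -/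
noncomputable def rest (_h : Three M C ν δ a b) : Finset (IrrCharacter G) :=
  Finset.univ \ ({oneG G, a, b} ∪ Finset.univ.image ν)

variable (h : Three M C ν δ a b)
include h

theorem sum_split {R : Type*} [AddCommMonoid R] (f : IrrCharacter G → R) :
    ∑ η, f η = f (oneG G) + f a + f b + ∑ η ∈ Finset.univ.image ν, f η + ∑ η ∈ h.rest, f η := by
  have hdisj : Disjoint ({oneG G, a, b} : Finset (IrrCharacter G)) (Finset.univ.image ν) := by
    rw [← h.ord_eq]
    exact Finset.disjoint_left.2 fun χ h1 h2 => by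
      obtain ⟨u, -, rfl⟩ := Finset.mem_image.1 h2
      exact (mem_ordSet.1 h1).2 ⟨u, rfl⟩
  rw [rest, ← Finset.sum_sdiff (Finset.subset_univ ({oneG G, a, b} ∪ Finset.univ.image ν)),
    Finset.sum_union hdisj, Finset.sum_insert (by simp [Ne.symm h.ne_a, Ne.symm h.ne_b]),
    Finset.sum_pair h.ne_ab]
  abel

theorem rest_apply_y {η : IrrCharacter G} (hη : η ∈ h.rest) : (η : G → ℂ) C.y = 0 := by
  rw [rest, Finset.mem_sdiff, ← h.ord_eq, Finset.mem_union] at hη
  have hnl : ¬ C.Lies η C.oneV := fun hl => hη.2 (by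
    by_cases hn : η ∈ Set.range ν
    · obtain ⟨u, rfl⟩ := hn
      exact Or.inr (Finset.mem_image_of_mem _ (Finset.mem_univ _))
    · exact Or.inl (mem_ordSet.2 ⟨hl, hn⟩))
  obtain ⟨P, hP⟩ := h.core.sylow
  have hv : ∀ v : C.V, v = 1 := fun v => (Nat.card_eq_one_iff_unique.1 h.trivial_V).1.elim v 1
  have hone : ∀ θ : IrrCharacter C.V, θ = C.oneV := fun θ => by
    refine Subtype.ext (funext fun v => ?_)
    rw [hv v, irr_deg_one_of_comm (fun a b => by rw [hv a, hv b]) θ.2]
    rfl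
  exact C.apply_singular_of_forall_not_lies (fun θ => hone θ ▸ hnl) P hP (dvd_of_eq C.order.symm)

theorem rest_dvd_deg {η : IrrCharacter G} (hη : η ∈ h.rest) : p ∣ deg (η : G → ℂ) := by
  have h1 := small_apply_mul_sub h.modular (isCharacter_of_irr η.2) (x := C.y) (y := 1)
    (Commute.one_right _) ⟨1, by rw [pow_one, C.order]⟩
    (by rw [orderOf_one]; exact (Fact.out : p.Prime).not_dvd_one)
  rw [mul_one, h.rest_apply_y hη, irr_apply_one_eq_deg] at h1
  refine Int.natCast_dvd_natCast.1 (dvd_neg.1 ((small_intCast_iff h.modular _).1 ?_))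
  push_cast
  simpa using h1

theorem sign (χ : IrrCharacter G) (hχ : χ ∈ ({oneG G, a, b} : Finset (IrrCharacter G))) :
    C.bI χ C.oneV 1 = 1 ∨ C.bI χ C.oneV 1 = -1 :=
  h.data.sign_diff (χ := χ) (mem_ordSet.1 (h.ord_eq ▸ hχ))

theorem apply_y (χ : IrrCharacter G) (hχ : χ ∈ ({oneG G, a, b} : Finset (IrrCharacter G))) :
    (χ : G → ℂ) C.y = (C.bI χ C.oneV 1 : ℂ) := by
  rw [← C.yP_one]
  have := mem_ordSet.1 (h.ord_eq ▸ hχ)
  exact apply_yP_ord h.modular h.data this.2 this.1 one_ne_zero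

theorem apply_y_a : (a : G → ℂ) C.y = (C.bI a C.oneV 1 : ℂ) := h.apply_y a (by simp)

theorem apply_y_b : (b : G → ℂ) C.y = (C.bI b C.oneV 1 : ℂ) := h.apply_y b (by simp)

theorem sum_exc_y : ∑ η ∈ Finset.univ.image ν, (η : G → ℂ) C.y = -(δ : ℂ) := by
  have := sum_exc h.modular h.data (i := (1 : ZMod p)) one_ne_zero
  rwa [C.yP_one] at this

theorem card_exc : (Finset.univ.image ν).card * 3 + 1 = p := by
  rw [card_image h.data, ← h.index]
  exact index_eq

theorem apply_exc {η : IrrCharacter G} (hη : η ∈ Finset.univ.image ν) {g : G} (hg : ¬ p ∣ orderOf g) :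
    (η : G → ℂ) g = (ν 1 : G → ℂ) g := by
  obtain ⟨u, -, rfl⟩ := Finset.mem_image.1 hη
  exact apply_exc_regular h.data u hg

theorem not_isConj_y {g : G} (hg : ¬ p ∣ orderOf g) : ¬ IsConj g C.y := fun hc => hg (by
  obtain ⟨c, hc⟩ := isConj_iff.1 hc
  rw [show orderOf g = orderOf C.y from (by
    rw [← hc]; exact (MulEquiv.orderOf_eq (MulAut.conj c) g).symm), C.order])

theorem oneG_apply (g : G) : (oneG G : G → ℂ) g = 1 := rfl

/-- Orthogonality with the singular column. -/
theorem orth_y {g : G} (hg : ¬ p ∣ orderOf g) :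
    1 + (a : G → ℂ) g * (C.bI a C.oneV 1 : ℂ) + (b : G → ℂ) g * (C.bI b C.oneV 1 : ℂ) -
      (δ : ℂ) * (ν 1 : G → ℂ) g = 0 := by
  have h1 := second_orthogonality g C.y
  rw [if_neg (h.not_isConj_y hg), h.sum_split,
    Finset.sum_congr rfl (g := fun η : IrrCharacter G => (ν 1 : G → ℂ) g * conj ((η : G → ℂ) C.y))
      (fun η hη => by rw [h.apply_exc hη hg]),
    Finset.sum_eq_zero (s := h.rest) (fun η hη => by rw [h.rest_apply_y hη, map_zero, mul_zero]),
    ← Finset.mul_sum, ← map_sum, h.sum_exc_y, h.apply_y_a, h.apply_y_b, h.oneG_apply, h.oneG_apply] at h1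
  simp only [map_neg, map_intCast, map_one, mul_one, add_zero] at h1
  linear_combination h1

/-- Orthogonality of two regular columns. -/
theorem orth_regular {g k : G} (hg : ¬ p ∣ orderOf g) (hk : ¬ p ∣ orderOf k) :
    (if IsConj g k then (Nat.card (Subgroup.centralizer ({g} : Set G)) : ℂ) else 0) =
      1 + (a : G → ℂ) g * conj ((a : G → ℂ) k) + (b : G → ℂ) g * conj ((b : G → ℂ) k) +
        ((Finset.univ.image ν).card : ℂ) * ((ν 1 : G → ℂ) g * conj ((ν 1 : G → ℂ) k)) +
        ∑ η ∈ h.rest, (η : G → ℂ) g * conj ((η : G → ℂ) k) := by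
  have h1 := (second_orthogonality g k).symm
  rw [h.sum_split,
    Finset.sum_congr rfl (g := fun _ : IrrCharacter G => (ν 1 : G → ℂ) g * conj ((ν 1 : G → ℂ) k))
      (fun η hη => by rw [h.apply_exc hη hg, h.apply_exc hη hk]),
    Finset.sum_const, nsmul_eq_mul, h.oneG_apply, h.oneG_apply] at h1
  simp only [map_one, mul_one] at h1
  convert h1 using 2

/-- The sum of the squares of the degrees. -/
theorem sum_deg : Nat.card G = 1 + deg (a : G → ℂ) ^ 2 + deg (b : G → ℂ) ^ 2 +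
    (Finset.univ.image ν).card * deg (ν 1 : G → ℂ) ^ 2 + ∑ η ∈ h.rest, deg (η : G → ℂ) ^ 2 := by
  rw [← sum_deg_sq_nat (G := G), h.sum_split,
    Finset.sum_congr rfl (g := fun _ : IrrCharacter G => deg (ν 1 : G → ℂ) ^ 2)
      (fun η hη => by obtain ⟨u, -, rfl⟩ := Finset.mem_image.1 hη; rw [deg_exc h.data]),
    Finset.sum_const, smul_eq_mul, deg_oneG, one_pow]

/-- Products of two regular classes equal to the singular element. -/
theorem count_regular {g k : G} (hg : ¬ p ∣ orderOf g) (hk : ¬ p ∣ orderOf k) :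
    (Nat.card {w : G × G // IsConj g w.1 ∧ IsConj k w.2 ∧ w.1 * w.2 = C.y} : ℂ) =
      (Nat.card {x : G // IsConj g x} : ℂ) * (Nat.card {x : G // IsConj k x} : ℂ) / (Nat.card G : ℂ) *
        (1 + (a : G → ℂ) g * (a : G → ℂ) k * (C.bI a C.oneV 1 : ℂ) / (deg (a : G → ℂ) : ℂ) +
          (b : G → ℂ) g * (b : G → ℂ) k * (C.bI b C.oneV 1 : ℂ) / (deg (b : G → ℂ) : ℂ) -
          (δ : ℂ) * ((ν 1 : G → ℂ) g * (ν 1 : G → ℂ) k / (deg (ν 1 : G → ℂ) : ℂ))) := by
  rw [class_mult_formula g k C.y, h.sum_split,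
    Finset.sum_congr rfl (g := fun η : IrrCharacter G =>
      (ν 1 : G → ℂ) g * (ν 1 : G → ℂ) k / (deg (ν 1 : G → ℂ) : ℂ) * conj ((η : G → ℂ) C.y))
      (fun η hη => by
        rw [h.apply_exc hη hg, h.apply_exc hη hk]
        obtain ⟨u, -, rfl⟩ := Finset.mem_image.1 hη
        rw [irr_apply_one_eq_deg, deg_exc h.data]
        ring),
    Finset.sum_eq_zero (s := h.rest) (fun η hη => by rw [h.rest_apply_y hη, map_zero, mul_zero, zero_div]),
    ← Finset.mul_sum, ← map_sum, h.sum_exc_y, h.apply_y_a, h.apply_y_b, h.oneG_apply, h.oneG_apply,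
    h.oneG_apply, h.oneG_apply]
  simp only [map_neg, map_intCast, map_one, mul_one, div_one, add_zero, irr_apply_one_eq_deg]
  ring

/-- The moduli of the exceptional values at the singular element. -/
theorem sum_exc_sq : ∑ η ∈ Finset.univ.image ν, (η : G → ℂ) C.y * conj ((η : G → ℂ) C.y) =
    (Nat.card (Subgroup.centralizer ({C.y} : Set G)) : ℂ) - 3 := by
  have h1 := second_orthogonality C.y C.y
  rw [if_pos (IsConj.refl _), h.sum_split, h.apply_y_a, h.apply_y_b, h.oneG_apply,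
    Finset.sum_eq_zero (s := h.rest) (fun η hη => by rw [h.rest_apply_y hη, zero_mul]),
    map_one, map_intCast, map_intCast] at h1
  have ea : (C.bI a C.oneV 1 : ℂ) * (C.bI a C.oneV 1 : ℂ) = 1 := by
    rcases h.sign a (by simp) with e | e <;> simp [e]
  have eb : (C.bI b C.oneV 1 : ℂ) * (C.bI b C.oneV 1 : ℂ) = 1 := by
    rcases h.sign b (by simp) with e | e <;> simp [e]
  linear_combination h1 - ea - eb

/-- Products of a regular class and the class of the singular element equal to the latter. -/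
theorem count_y {g : G} (hg : ¬ p ∣ orderOf g) :
    (Nat.card {w : G × G // IsConj g w.1 ∧ IsConj C.y w.2 ∧ w.1 * w.2 = C.y} : ℂ) =
      (Nat.card {x : G // IsConj g x} : ℂ) * (Nat.card {x : G // IsConj C.y x} : ℂ) / (Nat.card G : ℂ) *
        (1 + (a : G → ℂ) g / (deg (a : G → ℂ) : ℂ) + (b : G → ℂ) g / (deg (b : G → ℂ) : ℂ) +
          (ν 1 : G → ℂ) g / (deg (ν 1 : G → ℂ) : ℂ) *
            ((Nat.card (Subgroup.centralizer ({C.y} : Set G)) : ℂ) - 3)) := by
  rw [class_mult_formula g C.y C.y, h.sum_split,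
    Finset.sum_congr rfl (g := fun η : IrrCharacter G =>
      (ν 1 : G → ℂ) g / (deg (ν 1 : G → ℂ) : ℂ) * ((η : G → ℂ) C.y * conj ((η : G → ℂ) C.y)))
      (fun η hη => by
        rw [h.apply_exc hη hg]
        obtain ⟨u, -, rfl⟩ := Finset.mem_image.1 hη
        rw [irr_apply_one_eq_deg, deg_exc h.data]
        ring),
    Finset.sum_eq_zero (s := h.rest) (fun η hη => by rw [h.rest_apply_y hη, mul_zero, zero_mul, zero_div]),
    ← Finset.mul_sum, h.sum_exc_sq, h.apply_y_a, h.apply_y_b, h.oneG_apply, h.oneG_apply, h.oneG_apply]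
  have ea : (C.bI a C.oneV 1 : ℂ) * (C.bI a C.oneV 1 : ℂ) = 1 := by
    rcases h.sign a (by simp) with e | e <;> simp [e]
  have eb : (C.bI b C.oneV 1 : ℂ) * (C.bI b C.oneV 1 : ℂ) = 1 := by
    rcases h.sign b (by simp) with e | e <;> simp [e]
  simp only [map_intCast, map_one, mul_one, div_one, add_zero, irr_apply_one_eq_deg]
  simp only [mul_assoc, ea, eb, mul_one]

end Three

end Cfsg.Lib.Small.DegreeGraph
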