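import Cfsg.Agent.Blocks.DegreeEquation.Check
import Cfsg.Agent.Small.Toolkit

/-!
# The setting of a Sylow subgroup of prime order in a simple group
-/

set_option autoImplicit false
set_option linter.unusedSectionVars false

namespace Cfsg.Lib.Small.DegreeGraph

open Cfsg.Lib.Chars Cfsg.Lib.Blocks Cfsg.Lib.Blocks.SmallOrder Cfsg.Lib.Blocks.SylowCount
  Cfsg.Lib.Blocks.DegreeEquation
open scoped _root_.Classical

universe u

variable {G : Type u} [Group G] [Fintype G] [IsSimpleGroup G] {p : ℕ} [Fact p.Prime]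

theorem not_isCyclic_of_not_comm (hnc : ¬ ∀ a b : G, a * b = b * a) : ¬ IsCyclic G := fun _ =>
  hnc (IsCyclic.commGroup (α := G)).mul_comm

/-- The data of the principal block at a Sylow subgroup of prime order. -/
theorem exists_core (hnc : ¬ ∀ a b : G, a * b = b * a) {m : ℕ} (hcard : Nat.card G = p * m)
    (hpm : ¬ p ∣ m) (P : Sylow p G) :
    ∃ C : Cyc G p, Core C ∧ Subgroup.zpowers C.y = (P : Subgroup G) ∧
      idx C = Nat.card (Sylow p G) ∧ m = idx C * (eC C * Nat.card C.V) ∧ 2 ≤ eC C := by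
  have hpr := (Fact.out : p.Prime)
  have hdiv : p ∣ Nat.card G := ⟨m, hcard⟩
  have hsq : ¬ p ^ 2 ∣ Nat.card G := fun hd => by
    rw [hcard, pow_two] at hd
    exact hpm (Nat.dvd_of_mul_dvd_mul_left hpr.pos hd)
  obtain ⟨C, hC⟩ := exists_cyc hdiv hsq P
  have hcore : Core C := ⟨BrauerTuan.perfect_of_simple (not_isCyclic_of_not_comm hnc), ⟨P, hC⟩,
    fun N hN hne => by
      rw [hN.eq_bot_or_eq_top.resolve_left hne]
      exact Subgroup.mem_top _⟩
  refine ⟨C, hcore, hC, ?_, ?_, hcore.two_le_eC⟩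
  · rw [idx, hC]
    exact P.card_eq_index_normalizer.symm
  · refine Nat.eq_of_mul_eq_mul_left hpr.pos ?_
    rw [← hcard, card_eq C]
    ring

/-- The centraliser of `y` when `V` is trivial. -/
theorem card_centralizer_y (C : Cyc G p) (hV : Nat.card C.V = 1) :
    Nat.card (Subgroup.centralizer ({C.y} : Set G)) = p := by
  suffices h : Subgroup.centralizer ({C.y} : Set G) = Subgroup.zpowers C.y by
    rw [h, Nat.card_zpowers, C.order]
  refine le_antisymm (fun g hg => ?_) (Subgroup.zpowers_le.2 (Subgroup.mem_centralizer_singleton_iff.2 rfl))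
  have hg' := Subgroup.mem_centralizer_singleton_iff.1 hg
  have hn : g ∈ Subgroup.normalizer (Subgroup.zpowers C.y : Set G) := by
    rw [← Subgroup.centralizer_closure, ← Subgroup.zpowers_eq_closure] at hg
    exact Subgroup.centralizer_le_normalizer _ hg
  obtain ⟨i, k, hk, rfl⟩ := C.decomp g hn
  have hact : C.act ⟨k, hk⟩ = 1 := by
    refine Units.ext (C.yP_injective ?_)
    rw [Units.val_one, C.yP_one, Cyc.yP, ← C.conj_y ⟨k, hk⟩]
    show k * C.y * k⁻¹ = C.y
    rw [mul_inv_eq_iff_eq_mul]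
    have h1 : C.y ^ i * (k * C.y) = C.y ^ i * (C.y * k) := by
      rw [← mul_assoc, hg', ← mul_assoc, ← mul_assoc, ← pow_succ', ← pow_succ]
    exact mul_left_cancel h1
  have hv : (⟨⟨k, hk⟩, hact⟩ : C.V) = 1 := (Nat.card_eq_one_iff_unique.1 hV).1.elim _ _
  have hk1 : k = 1 := congrArg (fun v : C.V => ((v : C.H) : G)) hv
  rw [hk1, mul_one]
  exact pow_mem (Subgroup.mem_zpowers _) i

end Cfsg.Lib.Small.DegreeGraph
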